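import Cfsg.Agent.H521.Pw.Ru
import Cfsg.Agent.H773.Pw.Extra
import Cfsg.Agent.CpAutRuFive.Main
import Cfsg.Agent.H253.TwoComm.RowSuz

/-!
# S2454, the Rudvalis group, `p = 5` (helper521)

`z` of class 5A, conjugate to `z ^ 2`, in an extraspecial subgroup of order 125: degrees at least 20; `C(x)` of order 300.
-/

set_option autoImplicit false
set_option maxRecDepth 100000

namespace Cfsg.Agent.H521.Pw.RuFive

open Cfsg Subgroup Cfsg.Agent.H514.DP Cfsg.Agent.H773.Pw
open Cfsg.Agent.SporadicB Cfsg.Agent.RuD.Letters Cfsg.Agent.SporRec.TCUpperCert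
open Cfsg.Agent.KFacts.Ru Cfsg.Agent.KFacts.Ru.CentEng Cfsg.Agent.CpAutRuFive Cfsg.Agent.CpAutRuFive.Cert

def wz : List ℕ := [5, 0, 4]
def wb : List ℕ := [5, 7, 5, 0, 7, 8, 1, 3, 5, 7, 0, 5, 7, 4, 1, 3, 0]
def wf : List ℕ := [2, 7, 6, 7, 5, 3, 1, 7, 0, 5, 7, 8]

theorem c1 : chkEq (wz ++ (wz ++ (wz ++ (wz ++ wz)))) [] = true := by decide +kernel
theorem c2 : chkEq (wb ++ wB) (wz ++ (wB ++ wb)) = true := by decide +kernel
theorem c3 : chkEq (wb ++ wz) (wz ++ wb) = true := by decide +kernel
theorem c4 : chkEq (wB ++ wz) (wz ++ wB) = true := by decide +kernel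
theorem c5 : chkEq (wf ++ wz) ((wz ++ wz) ++ wf) = true := by decide +kernel
theorem c6 : Nat.beq (evalK wz 0) 0 = false := by decide +kernel

local notation "x" => (wprod ml wB : RuOrder.H)
local notation "z" => (wprod ml wz : RuOrder.H)
local notation "b" => (wprod ml wb : RuOrder.H)
local notation "f" => (wprod ml wf : RuOrder.H)

theorem z_ne : z ≠ 1 := by
  intro h
  have h1 := evalK_eq wz ⟨0, by norm_num⟩
  rw [h] at h1
  have h2 : evalK wz 0 = 0 := h1.symm
  have h3 := c6
  rw [h2] at h3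
  revert h3
  decide

theorem z_five : z ^ 5 = 1 := by
  have h := eq_of_chkEq c1
  simp only [wprod_append, wprod_nil] at h
  rw [← h]
  simp only [pow_succ, pow_zero, one_mul, mul_assoc]

theorem order_z : orderOf z = 5 := by
  have : Fact (Nat.Prime 5) := ⟨by norm_num⟩
  exact orderOf_eq_prime z_five z_ne

theorem comm_b : b * x = z * (x * b) := by
  have h := eq_of_chkEq c2
  simpa only [wprod_append] using h

theorem comm_bz : b * z = z * b := by
  have h := eq_of_chkEq c3
  simpa only [wprod_append] using h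

theorem comm_xz : x * z = z * x := by
  have h := eq_of_chkEq c4
  simpa only [wprod_append] using h

theorem conj_z : f * z * f⁻¹ = z ^ 2 := by
  have h := eq_of_chkEq c5
  simp only [wprod_append] at h
  rw [h, mul_inv_cancel_right, pow_two]

theorem isConj_z (j : ℕ) (h1 : 0 < j) (h2 : j < 5) : IsConj z (z ^ j) := by
  have h3 : ∃ n < 4, 2 ^ n % 5 = j := by interval_cases j <;> decide
  obtain ⟨n, -, rfl⟩ := h3
  rw [← order_z, pow_mod_orderOf]
  exact H253.TC.isConj_pow_two_pow conj_z n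

theorem minDeg [IsSimpleGroup RuOrder.H] [Finite RuOrder.H] : MinDeg RuOrder.H 20 := by
  have h := minDeg_of_extra (K := RuOrder.H) (l := 5) (m := 1) (by norm_num) order_z (Finset.Ico 1 5) (by
      intro j hj
      rw [Finset.mem_Ico] at hj
      omega) (by
      intro j hj
      rw [Finset.mem_Ico] at hj
      exact isConj_z j (by omega) hj.2) (fun _ => b) (fun _ => x) (fun _ => comm_b) (fun _ => comm_bz) (fun _ => comm_xz)
      (fun i j hij => absurd (Subsingleton.elim i j) hij) (fun _ _ => Commute.refl _) (fun _ _ => Commute.refl _)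
  simpa using h



end Cfsg.Agent.H521.Pw.RuFive

namespace Cfsg.Agent.H521.Pw

open Cfsg Subgroup Cfsg.Agent.H514.DP Cfsg.Agent.H773.Pw Cfsg.Agent.SporadicB

theorem pw_ru_five {S : Type*} [Group S] [Finite S] [IsSimpleGroup S] (h : Spor.IsoRu S) : PW 5 70 S := by
  obtain ⟨e0⟩ := h
  have e := e0.trans RuLat.Main.equiv
  refine PW.congr ?_ e.symm
  have hs : IsSimpleGroup RuOrder.H := e.symm.isSimpleGroup
  have hf := H436.TwoRu.finite_H
  have hn' : Nat.card RuOrder.H = 145926144000 := H436.TwoRu.card_H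
  have hna := H253.TC.not_comm_of_card hn' (by norm_num) (p := 13) (by norm_num) (by norm_num) (by norm_num)
  exact pw_of_pe (D := 20) (k := 42) (c := 300) hna (IsPE.of_prime CpAutRuFive.orderB).pe RuFive.minDeg
    CpAutRuFive.cardB (by norm_num) (by norm_num) (by norm_num)

/-- **`PW p 70` for the Rudvalis group.** -/
theorem pw_ru {S : Type*} [Group S] [Finite S] [IsSimpleGroup S] (h : Spor.IsoRu S) {p : ℕ} (hp : p.Prime)
    (hd : p ∣ Nat.card S) : PW p 70 S :=
  pw_ru_of h hp hd fun h5 => h5 ▸ pw_ru_five h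

end Cfsg.Agent.H521.Pw
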