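import Cfsg.Agent.H521.Pw.Row
import Cfsg.Agent.H253.TwoComm.RowSuz
import Cfsg.Agent.H812.SuzSeven
import Cfsg.Agent.H868.CopSuzB
import Cfsg.Agent.H537.CopSuzEl

/-!
# S2454, the Suzuki group (helper521)
-/

set_option autoImplicit false

namespace Cfsg.Agent.H521.Pw

open Cfsg Subgroup Cfsg.Agent.H514.DP Cfsg.Agent.H773.Pw

theorem cent_suz_seven {y : Spor.Suz} (hy : orderOf y = 7) : Nat.card (centralizer ({y} : Set Spor.Suz)) = 84 := by
  have hf := CTwoTab.Suz.finSuz
  have h7 : Fact (Nat.Prime 7) := ⟨by norm_num⟩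
  obtain ⟨S, hS⟩ := H812.SuzSeven.sylow_zpowers hy
  obtain ⟨⟨e⟩, -⟩ := H812.SuzSeven.main ⟨MulEquiv.refl _⟩ S
  have h1 := Nat.card_congr e.toEquiv
  rw [hS, H724.IMTool.centralizer_zpowers, Nat.card_prod, Nat.card_congr Multiplicative.toAdd, Nat.card_zmod,
    nat_card_alternatingGroup, Nat.card_fin] at h1
  rw [h1]
  decide

/-- **`PW p 70` for the Suzuki group.** -/
theorem pw_suz {S : Type*} [Group S] [Finite S] [IsSimpleGroup S] (h : Spor.IsoSuz S) {p : ℕ} (hp : p.Prime)
    (hd : p ∣ Nat.card S) : PW p 70 S := by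
  have hn := NotCT.Orders.suz h
  obtain ⟨e⟩ := h
  refine PW.congr ?_ e.symm
  have hs : IsSimpleGroup Spor.Suz := e.symm.isSimpleGroup
  have hf := CTwoTab.Suz.finSuz
  have hn' : Nat.card Spor.Suz = 448345497600 := by rw [← hn, Nat.card_congr e.toEquiv]
  have hna := H253.TC.not_comm_of_card hn' (by norm_num) (p := 13) (by norm_num) (by norm_num) (by norm_num)
  have hD : MinDeg Spor.Suz 10 := minDeg_of_pd (perf_of_simple hna) H253.TC.pd_suz
  rw [hn] at hd
  have hc := prime_cases hp [(2, 13), (3, 7), (5, 2), (7, 1), (11, 1), (13, 1)] (by norm_num) (by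
    intro a ha
    simp only [List.mem_cons, List.not_mem_nil, or_false] at ha
    rcases ha with rfl | rfl | rfl | rfl | rfl | rfl <;> norm_num) hd
  simp only [List.map_cons, List.map_nil, List.mem_cons, List.not_mem_nil, or_false] at hc
  rcases hc with rfl | rfl | rfl | rfl | rfl | rfl
  · exact pw_of_sc (l := 13) (k := 5) hn' hna (by norm_num) (by norm_num) (by norm_num) (by norm_num) (by norm_num)
      H868.CopSuz.sc_thirteen (by decide) hD (by norm_num) (by norm_num) (by norm_num)
  · exact pw_of_sc (l := 13) (k := 5) hn' hna (by norm_num) (by norm_num) (by norm_num) (by norm_num) (by norm_num)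
      H868.CopSuz.sc_thirteen (by decide) hD (by norm_num) (by norm_num) (by norm_num)
  · exact pw_of_sc (l := 11) (k := 5) hn' hna (by norm_num) (by norm_num) (by norm_num) (by norm_num) (by norm_num)
      H537.Cop.suz_11 (by decide) hD (by norm_num) (by norm_num) (by norm_num)
  · exact pw_of_order (D := 10) (k := 50) (c := 84) hna (by norm_num) (hn' ▸ hd) hD (fun y hy => (cent_suz_seven hy).le)
      (by norm_num) (by norm_num) (by norm_num)
  · exact pw_of_order (D := 10) (k := 5) (c := 11) hna (by norm_num) (hn' ▸ hd) hD (fun y hy => (H537.Cop.suz_11 y hy).le)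
      (by norm_num) (by norm_num) (by norm_num)
  · exact pw_of_order (D := 10) (k := 5) (c := 13) hna (by norm_num) (hn' ▸ hd) hD
      (fun y hy => (H868.CopSuz.sc_thirteen y hy).le) (by norm_num) (by norm_num) (by norm_num)

end Cfsg.Agent.H521.Pw
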