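import Cfsg.Agent.H521.Pw.Row
import Cfsg.Agent.H436.TwoRu

/-!
# S2454, the Rudvalis group (helper521)
-/

set_option autoImplicit false

namespace Cfsg.Agent.H521.Pw

open Cfsg Subgroup Cfsg.Agent.H514.DP Cfsg.Agent.H773.Pw Cfsg.Agent.SporadicB

/-- **`PW p 70` for the Rudvalis group**, except `p = 5`. -/
theorem pw_ru_of {S : Type*} [Group S] [Finite S] [IsSimpleGroup S] (h : Spor.IsoRu S) {p : ℕ} (hp : p.Prime)
    (hd : p ∣ Nat.card S) (h5 : p = 5 → PW p 70 S) : PW p 70 S := by
  have hn := NotCT.Orders.ru h
  obtain ⟨e0⟩ := h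
  have e := e0.trans RuLat.Main.equiv
  by_cases hp5 : p = 5
  · exact h5 hp5
  clear h5
  refine PW.congr ?_ e.symm
  have hs : IsSimpleGroup RuOrder.H := e.symm.isSimpleGroup
  have hf := H436.TwoRu.finite_H
  have hn' : Nat.card RuOrder.H = 145926144000 := H436.TwoRu.card_H
  have hna := H253.TC.not_comm_of_card hn' (by norm_num) (p := 13) (by norm_num) (by norm_num) (by norm_num)
  have hD : MinDeg RuOrder.H 15 := minDeg_of_prime hn' (by norm_num) (l := 29) (by norm_num) (by norm_num) (by norm_num)
    (by norm_num) (by norm_num) (by norm_num) (by norm_num)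
  rw [hn] at hd
  have hc := prime_cases hp [(2, 14), (3, 3), (5, 3), (7, 1), (13, 1), (29, 1)] (by norm_num) (by
    intro a ha
    simp only [List.mem_cons, List.not_mem_nil, or_false] at ha
    rcases ha with rfl | rfl | rfl | rfl | rfl | rfl <;> norm_num) hd
  simp only [List.map_cons, List.map_nil, List.mem_cons, List.not_mem_nil, or_false] at hc
  rcases hc with rfl | rfl | rfl | rfl | rfl | rfl
  · exact pw_of_sylow (l := 29) (m := 1) (k := 6) hn' hna (by norm_num) (by norm_num) (by norm_num) (by norm_num)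
      (by norm_num) H436.TwoRu.cent29 (by decide) (by norm_num) hD (by norm_num) (by norm_num) (by norm_num)
  · exact pw_of_sylow (l := 13) (m := 4) (k := 8) hn' hna (by norm_num) (by norm_num) (by norm_num) (by norm_num)
      (by norm_num) H436.TwoRu.cent13 (by decide) (by norm_num) hD (by norm_num) (by norm_num) (by norm_num)
  · exact absurd rfl hp5
  · exact pw_of_sylow (l := 29) (m := 1) (k := 6) hn' hna (by norm_num) (by norm_num) (by norm_num) (by norm_num)
      (by norm_num) H436.TwoRu.cent29 (by decide) (by norm_num) hD (by norm_num) (by norm_num) (by norm_num)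
  · exact pw_of_order (D := 15) (k := 8) (c := 52) hna (by norm_num) (hn' ▸ hd) hD
      (fun y hy => Nat.le_of_dvd (by norm_num) (H436.TwoRu.cent13 y hy)) (by norm_num) (by norm_num) (by norm_num)
  · exact pw_of_order (D := 15) (k := 6) (c := 29) hna (by norm_num) (hn' ▸ hd) hD
      (fun y hy => Nat.le_of_dvd (by norm_num) (H436.TwoRu.cent29 y hy)) (by norm_num) (by norm_num) (by norm_num)

end Cfsg.Agent.H521.Pw
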